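import Groth.Prelude.Def_Found
import Mathlib.RingTheory.LocalRing.MaximalIdeal.Basic
import Mathlib.RingTheory.LocalRing.ResidueField.Basic
import Mathlib.LinearAlgebra.Matrix.NonsingularInverse
import Mathlib.Algebra.Module.Projective

/-!
Countably generated projective modules over local rings are free.
-/

set_option autoImplicit false
universe u

namespace Groth.Agent.Kaplansky

variable {R : Type u} [CommRing R] [IsLocalRing R]

/-- every element of a projective module over a local ring lies in a finite free direct summand -/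
lemma exists_free_summand {V : Type u} [AddCommGroup V] [Module R V] [Module.Projective R V] (x : V) :
    ∃ (r : ℕ) (a : (Fin r → R) →ₗ[R] V) (b : V →ₗ[R] (Fin r → R)), b ∘ₗ a = LinearMap.id ∧ x ∈ LinearMap.range a := by
  classical
  obtain ⟨s, hs⟩ := (Module.projective_def.1 ‹_› : ∃ s : V →ₗ[R] V →₀ R, Function.LeftInverse (Finsupp.linearCombination R id) s)
  let I : Ideal R := LinearMap.range (LinearMap.applyₗ x : Module.Dual R V →ₗ[R] R)
  let σ := (s x).support
  have hxσ : x = ∑ i ∈ σ, s x i • i := (hs x).symm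
  let good : ℕ → Prop := fun r => ∃ g : Fin r → Module.Dual R V, I = Ideal.span (Set.range fun k => g k x)
  have hgood : ∃ r, good r := by
    let g : Fin σ.card → Module.Dual R V := fun k => Finsupp.lapply (σ.equivFin.symm k).1 ∘ₗ s
    refine ⟨σ.card, g, le_antisymm ?_ (Ideal.span_le.2 (Set.range_subset_iff.2 fun k => ⟨g k, rfl⟩))⟩
    rintro _ ⟨φ, rfl⟩
    have h1 : φ x = ∑ i ∈ σ, s x i * φ i := (congrArg φ hxσ).trans (by simp)
    change φ x ∈ _
    rw [h1]
    refine Ideal.sum_mem _ fun i hi => ?_
    exact Ideal.mul_mem_right _ _ (Ideal.subset_span ⟨σ.equivFin ⟨i, hi⟩, by simp [g]⟩)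
  obtain ⟨g, hg⟩ := Nat.find_spec hgood
  generalize hr : Nat.find hgood = r at g hg
  -- relations among a minimal system of generators lie in the maximal ideal
  have hmin : ∀ c : Fin r → R, ∑ k, c k * g k x = 0 → ∀ l, c l ∈ IsLocalRing.maximalIdeal R := by
    intro c hc l
    by_contra hl
    obtain ⟨w, hw⟩ : IsUnit (c l) := IsLocalRing.notMem_maximalIdeal.1 hl
    obtain ⟨r', rfl⟩ : ∃ r', r = r' + 1 := ⟨r - 1, by have := l.2; omega⟩
    refine Nat.find_min hgood (by omega : r' < Nat.find hgood) ⟨fun k => g (l.succAbove k), le_antisymm ?_ ?_⟩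
    · rw [hg, Ideal.span_le, Set.range_subset_iff]
      intro k
      by_cases hk : k = l
      · subst hk
        rw [Fin.sum_univ_succAbove _ k] at hc
        have : g k x = -((w⁻¹ : Rˣ) : R) * ∑ i, c (k.succAbove i) * g (k.succAbove i) x := by
          rw [eq_neg_of_add_eq_zero_right hc, neg_mul_neg, ← hw, ← mul_assoc, Units.inv_mul, one_mul]
        rw [SetLike.mem_coe, this]
        exact Ideal.mul_mem_left _ _ (Ideal.sum_mem _ fun i _ => Ideal.mul_mem_left _ _ (Ideal.subset_span ⟨i, rfl⟩))
      · obtain ⟨i, rfl⟩ := Fin.exists_succAbove_eq hk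
        exact Ideal.subset_span ⟨i, rfl⟩
    · rw [hg]
      exact Ideal.span_mono (Set.range_subset_iff.2 fun k => ⟨l.succAbove k, rfl⟩)
  have hcoef : ∀ i : V, ∃ c : Fin r → R, ∑ k, c k * g k x = s x i := fun i => by
    have : s x i ∈ I := ⟨Finsupp.lapply i ∘ₗ s, rfl⟩
    rw [hg] at this
    obtain ⟨c, hc⟩ := Ideal.mem_span_range_iff_exists_fun.1 this
    exact ⟨c, hc⟩
  choose Mc hMc using hcoef
  let u : Fin r → V := fun k => ∑ i ∈ σ, Mc i k • i
  have hxu : x = ∑ k, g k x • u k := by
    conv_lhs => rw [hxσ]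
    simp only [u, Finset.smul_sum, smul_smul]
    rw [Finset.sum_comm]
    refine Finset.sum_congr rfl fun i _ => ?_
    rw [← Finset.sum_smul]
    congr 1
    exact ((hMc i).symm.trans (Finset.sum_congr rfl fun k _ => mul_comm _ _))
  let D : Matrix (Fin r) (Fin r) R := Matrix.of fun l k => g l (u k)
  have hD : IsUnit D := by
    rw [Matrix.isUnit_iff_isUnit_det, ← isUnit_map_iff (IsLocalRing.residue R), RingHom.map_det]
    suffices h : (IsLocalRing.residue R).mapMatrix D = 1 by rw [h, Matrix.det_one]; exact isUnit_one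
    ext l k
    have hrel : ∑ j, (D l j - if l = j then 1 else 0) * g j x = 0 := by
      simp only [sub_mul, Finset.sum_sub_distrib, ite_mul, one_mul, zero_mul, Finset.sum_ite_eq,
        Finset.mem_univ, if_true, sub_eq_zero]
      conv_rhs => rw [hxu, map_sum]
      exact Finset.sum_congr rfl fun j _ => by simp [D, mul_comm]
    have h := hmin _ hrel k
    rw [← IsLocalRing.residue_eq_zero_iff, map_sub, sub_eq_zero] at h
    simp [h, Matrix.one_apply, apply_ite (IsLocalRing.residue R)]
  let a : (Fin r → R) →ₗ[R] V := Fintype.linearCombination R u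
  refine ⟨r, a, Matrix.toLin' D⁻¹ ∘ₗ LinearMap.pi g, ?_, ⟨fun k => g k x, hxu.symm⟩⟩
  have : LinearMap.pi g ∘ₗ a = Matrix.toLin' D := by
    refine LinearMap.ext fun v => funext fun l => ?_
    simp only [a, D, LinearMap.comp_apply, LinearMap.pi_apply, Fintype.linearCombination_apply, map_sum, map_smul,
      Matrix.toLin'_apply, Matrix.mulVec, dotProduct, Matrix.of_apply, smul_eq_mul]
    exact Finset.sum_congr rfl fun j _ => mul_comm _ _
  rw [LinearMap.comp_assoc, this, ← Matrix.toLin'_mul, Matrix.nonsing_inv_mul _ ((Matrix.isUnit_iff_isUnit_det D).1 hD),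
    Matrix.toLin'_one]

/-- countably generated projective modules over local rings are free -/
theorem free_of_countablyGenerated {P : Type u} [AddCommGroup P] [Module R P] [Module.Projective R P]
    (hP : CAlg.IsCountablyGenerated R P) : Module.Free R P := by
  classical
  obtain ⟨s, hs, hspan⟩ := hP
  obtain ⟨x, hx⟩ := (hs.union (Set.countable_singleton (0 : P))).exists_eq_range ⟨0, Or.inr rfl⟩
  -- splitting off a free summand containing a given element from a complemented submodule
  have step : ∀ (e : {e : P →ₗ[R] P // ∀ y, e (e y) = e y}) (y : P),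
      ∃ (r : ℕ) (u : (Fin r → R) →ₗ[R] P) (h : P →ₗ[R] (Fin r → R)),
        h ∘ₗ u = LinearMap.id ∧ e.1 ∘ₗ u = u ∧ h ∘ₗ e.1 = h ∧ e.1 y ∈ LinearMap.range u := by
    intro e y
    let W : Submodule R P := LinearMap.range e.1
    have : Module.Projective R W := Module.Projective.of_split W.subtype e.1.rangeRestrict
      (LinearMap.ext fun ⟨z, w, hw⟩ => Subtype.ext (show e.1 z = z by rw [← hw, e.2]))
    obtain ⟨r, a, b, hab, hmem⟩ := exists_free_summand (R := R) (V := W) (e.1.rangeRestrict y)
    refine ⟨r, W.subtype ∘ₗ a, b ∘ₗ e.1.rangeRestrict, ?_, ?_, ?_, ?_⟩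
    · refine LinearMap.ext fun v => Eq.trans ?_ (LinearMap.congr_fun hab v)
      refine congrArg b (Subtype.ext ?_)
      obtain ⟨w, hw⟩ := (a v).2
      change e.1 (a v : P) = a v
      rw [← hw, e.2]
    · refine LinearMap.ext fun v => ?_
      obtain ⟨w, hw⟩ := (a v).2
      change e.1 (a v : P) = a v
      rw [← hw, e.2]
    · exact LinearMap.ext fun z => congrArg b (Subtype.ext (e.2 z))
    · obtain ⟨v, hv⟩ := hmem
      exact ⟨v, congrArg Subtype.val hv⟩
  choose r u h hhu heu hhe hmem using step
  let next : ∀ (_ : ℕ) (_ : {e : P →ₗ[R] P // ∀ y, e (e y) = e y}), {e : P →ₗ[R] P // ∀ y, e (e y) = e y} :=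
    fun n e => ⟨e.1 - u e (x n) ∘ₗ h e (x n), fun z => by
      have h1 : ∀ v, h e (x n) (u e (x n) v) = v := LinearMap.congr_fun (hhu e (x n))
      have h2 : ∀ v, e.1 (u e (x n) v) = u e (x n) v := LinearMap.congr_fun (heu e (x n))
      have h3 : ∀ v, h e (x n) (e.1 v) = h e (x n) v := LinearMap.congr_fun (hhe e (x n))
      simp only [LinearMap.sub_apply, LinearMap.comp_apply, map_sub, e.2, h1, h2, h3]
      abel⟩
  let E : ℕ → {e : P →ₗ[R] P // ∀ y, e (e y) = e y} := fun n => Nat.rec ⟨LinearMap.id, fun _ => rfl⟩ next n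
  have hE : ∀ n z, (E (n + 1)).1 z = (E n).1 z - u (E n) (x n) (h (E n) (x n) z) := fun n z => rfl
  have hkill : ∀ n m, n < m → ∀ z, h (E n) (x n) ((E m).1 z) = 0 := by
    intro n m hnm z
    induction m, hnm using Nat.le_induction generalizing z with
    | base =>
      rw [hE, map_sub, ← LinearMap.comp_apply, hhe, ← LinearMap.comp_apply (h (E n) (x n)) (u (E n) (x n)), hhu,
        LinearMap.id_apply, sub_self]
    | succ m _ ih =>
      rw [hE, map_sub, ← LinearMap.congr_fun (heu (E m) (x m)), LinearMap.comp_apply, ih, ih, sub_zero]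
  let U : ((Σ n, Fin (r (E n) (x n))) →₀ R) →ₗ[R] P :=
    Finsupp.linearCombination R fun p => u (E p.1) (x p.1) (Pi.single p.2 1)
  have hU : ∀ n v, u (E n) (x n) v ∈ LinearMap.range U := fun n v => by
    rw [pi_eq_sum_univ' v, map_sum]
    exact Submodule.sum_mem _ fun j _ => by
      rw [map_smul]; exact Submodule.smul_mem _ _ ⟨Finsupp.single ⟨n, j⟩ 1, by simp [U]⟩
  have hUk : ∀ n z, z - (E n).1 z ∈ LinearMap.range U := by
    intro n
    induction n with
    | zero => intro z; simp [E]
    | succ n ih =>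
      intro z
      rw [hE, sub_sub_eq_add_sub, add_sub_right_comm]
      exact add_mem (ih z) (hU n _)
  have hsurj : LinearMap.range U = ⊤ := by
    rw [eq_top_iff, ← hspan, Submodule.span_le]
    intro y hy
    obtain ⟨n, rfl⟩ : y ∈ Set.range x := hx ▸ Or.inl hy
    obtain ⟨v, hv⟩ := hmem (E n) (x n)
    have : x n = (x n - (E n).1 (x n)) + u (E n) (x n) v := by rw [hv]; abel
    rw [SetLike.mem_coe, this]
    exact add_mem (hUk n _) (hU n v)
  have hinj : LinearMap.ker U = ⊥ := by
    rw [Submodule.eq_bot_iff]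
    intro c hc
    have hzero : ∀ n, ∀ j, c ⟨n, j⟩ = 0 := by
      intro n
      induction n using Nat.strong_induction_on with
      | _ n ih =>
        intro j
        have key : ∀ p ∈ c.support, h (E n) (x n) (c p • u (E p.1) (x p.1) (Pi.single p.2 1)) j =
            if p = ⟨n, j⟩ then c ⟨n, j⟩ else 0 := by
          rintro ⟨m, i⟩ hp
          rcases lt_trichotomy m n with hlt | rfl | hgt
          · exact absurd (ih m hlt i) (Finsupp.mem_support_iff.1 hp)
          · rw [map_smul, ← LinearMap.comp_apply, hhu, LinearMap.id_apply, Pi.smul_apply, smul_eq_mul]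
            by_cases hij : i = j
            · subst hij; simp
            · simp [Ne.symm hij, hij]
          · rw [map_smul, ← LinearMap.congr_fun (heu (E m) (x m)), LinearMap.comp_apply, hkill n m hgt, smul_zero,
              Pi.zero_apply, if_neg (fun hh => hgt.ne' (congrArg Sigma.fst hh))]
        have h0 : h (E n) (x n) (U c) j = 0 := by rw [LinearMap.mem_ker.1 hc, map_zero]; rfl
        rw [Finsupp.linearCombination_apply, Finsupp.sum, map_sum, Finset.sum_apply,
          Finset.sum_congr rfl key, Finset.sum_ite_eq'] at h0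
        by_contra hne
        rw [if_pos (Finsupp.mem_support_iff.2 hne)] at h0
        exact hne h0
    exact Finsupp.ext fun p => hzero p.1 p.2
  exact Module.Free.of_equiv (LinearEquiv.ofBijective U ⟨LinearMap.ker_eq_bot.1 hinj, LinearMap.range_eq_top.1 hsurj⟩)

end Groth.Agent.Kaplansky
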