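import Groth.Prelude.Def_Found
import Mathlib.Algebra.DirectSum.Module
import Mathlib.Order.CompactlyGenerated.Basic
import Mathlib.Data.Set.Countable
import Mathlib.LinearAlgebra.Projection

/-!
Kaplansky's devissage: a direct summand of a direct sum of countably generated modules is again one.
-/

set_option autoImplicit false
universe u

namespace Groth.Agent.Kaplansky

variable {R : Type u} [CommRing R] {M : Type u} [AddCommGroup M] [Module R M]

/-- a submodule spanned by a countable set -/
def CG (X : Submodule R M) : Prop := ∃ s : Set M, s.Countable ∧ Submodule.span R s = X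

lemma CG.map {X : Submodule R M} (h : CG X) (f : M →ₗ[R] M) : CG (X.map f) := by
  obtain ⟨s, hs, rfl⟩ := h
  exact ⟨f '' s, hs.image f, (Submodule.map_span f s).symm⟩

lemma CG.biSup {ι : Type u} {A : Set ι} (hA : A.Countable) {N : ι → Submodule R M} (h : ∀ i, CG (N i)) :
    CG (⨆ i ∈ A, N i) := by
  choose s hs hspan using h
  refine ⟨⋃ i ∈ A, s i, hA.biUnion fun i _ => hs i, ?_⟩
  rw [Submodule.span_iUnion₂]
  simp only [hspan]

lemma cg_of_isCountablyGenerated {X : Submodule R M} (h : CAlg.IsCountablyGenerated R X) : CG X := by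
  obtain ⟨s, hs, hspan⟩ := h
  refine ⟨Subtype.val '' s, hs.image _, ?_⟩
  rw [← Submodule.coe_subtype, ← Submodule.map_span, hspan, Submodule.map_subtype_top]

lemma isCountablyGenerated_comap {P X : Submodule R M} (hX : CG X) (hle : X ≤ P) :
    CAlg.IsCountablyGenerated R (X.comap P.subtype : Submodule R P) := by
  obtain ⟨s, hs, rfl⟩ := hX
  let s' : Set (Submodule.comap P.subtype (Submodule.span R s)) := (fun z => ((z : P) : M)) ⁻¹' s
  refine ⟨s', hs.preimage fun a b h => Subtype.ext (Subtype.ext h), ?_⟩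
  apply Submodule.map_injective_of_injective (f := P.subtype ∘ₗ (Submodule.comap P.subtype (Submodule.span R s)).subtype)
    (fun a b h => Subtype.ext (Subtype.ext h))
  rw [Submodule.map_span, Submodule.map_comp, Submodule.map_subtype_top, Submodule.map_comap_subtype,
    inf_eq_right.2 hle]
  refine congrArg _ (Set.image_preimage_eq_of_subset fun x hx => ?_)
  exact ⟨⟨⟨x, hle (Submodule.subset_span hx)⟩, Submodule.subset_span hx⟩, rfl⟩

variable {ι : Type u} (N : ι → Submodule R M) (e : M →ₗ[R] M)

/-- the sum of the summands indexed by a set -/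
def sumOf (J : Set ι) : Submodule R M := ⨆ i ∈ J, N i

lemma sumOf_union (J K : Set ι) : sumOf N (J ∪ K) = sumOf N J ⊔ sumOf N K := iSup_union

lemma sumOf_mono {J K : Set ι} (h : J ⊆ K) : sumOf N J ≤ sumOf N K := biSup_mono fun _ hi => h hi

/-- states of the transfinite construction -/
structure State where
  J : Set ι
  L : Set (Submodule R M)
  stable : ∀ i ∈ J, (N i).map e ≤ sumOf N J
  indep : sSupIndep L
  cg : ∀ X ∈ L, CG X
  sup : sSup L = (sumOf N J).map e

theorem exists_decomposition (hind : iSupIndep N) (htop : iSup N = ⊤) (hc : ∀ i, CG (N i))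
    (he : ∀ x, e (e x) = e x) :
    ∃ L : Set (Submodule R M), sSupIndep L ∧ (∀ X ∈ L, CG X) ∧ sSup L = LinearMap.range e := by
  classical
  let leS : State N e → State N e → Prop := fun s t => s.J ⊆ t.J ∧ s.L ⊆ t.L
  obtain ⟨m, hm⟩ := exists_maximal_of_chains_bounded (r := leS) (fun c hcc => by
    refine ⟨⟨⋃ s ∈ c, s.J, ⋃ s ∈ c, s.L, fun i hi => ?_, ?_, fun X hX => ?_, ?_⟩,
      fun s hs => ⟨Set.subset_biUnion_of_mem (u := fun s : State N e => s.J) hs,
        Set.subset_biUnion_of_mem (u := fun s : State N e => s.L) hs⟩⟩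
    · obtain ⟨s, hs, hi⟩ := Set.mem_iUnion₂.1 hi
      exact (s.stable i hi).trans (sumOf_mono N (Set.subset_biUnion_of_mem (u := fun s : State N e => s.J) hs))
    · refine sSupIndep_iff_finite.2 fun t ht => ?_
      rcases t.eq_empty_or_nonempty with rfl | hne
      · simpa using sSupIndep_empty
      have hdir : DirectedOn (fun s t : State N e => s.L ⊆ t.L) c := fun a ha b hb => by
        rcases eq_or_ne a b with rfl | hab
        · exact ⟨a, ha, subset_rfl, subset_rfl⟩
        · rcases hcc ha hb hab with h | h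
          · exact ⟨b, hb, h.2, subset_rfl⟩
          · exact ⟨a, ha, subset_rfl, h.2⟩
      obtain ⟨s₀, hs₀, hsub⟩ : ∃ s ∈ c, (t : Set (Submodule R M)) ⊆ s.L := by
        have hchoice : ∀ X ∈ t, ∃ s ∈ c, X ∈ s.L := fun X hX => by
          obtain ⟨s, hs, h⟩ := Set.mem_iUnion₂.1 (ht hX)
          exact ⟨s, hs, h⟩
        clear ht
        induction t using Finset.induction_on with
        | empty => exact absurd hne Finset.not_nonempty_empty
        | insert X t' _ ih =>
          obtain ⟨a, ha, hXa⟩ := hchoice X (Finset.mem_insert_self _ _)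
          rcases t'.eq_empty_or_nonempty with rfl | hne'
          · exact ⟨a, ha, by simpa using hXa⟩
          obtain ⟨b, hb, hbt⟩ := ih hne' fun Y hY => hchoice Y (Finset.mem_insert_of_mem hY)
          obtain ⟨d, hd, had, hbd⟩ := hdir a ha b hb
          exact ⟨d, hd, by rw [Finset.coe_insert]; exact Set.insert_subset (had hXa) (hbt.trans hbd)⟩
      exact s₀.indep.mono hsub
    · obtain ⟨s, hs, hX⟩ := Set.mem_iUnion₂.1 hX
      exact s.cg X hX
    · simp only [sumOf, iSup_iUnion, Submodule.map_iSup, sSup_eq_iSup]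
      refine iSup_congr fun s => iSup_congr fun _ => ?_
      rw [← sSup_eq_iSup, s.sup, sumOf]
      simp only [Submodule.map_iSup]) (fun h₁ h₂ => ⟨h₁.1.trans h₂.1, h₁.2.trans h₂.2⟩)
  suffices hJ : m.J = Set.univ by
    refine ⟨m.L, m.indep, m.cg, ?_⟩
    rw [m.sup, hJ, sumOf, iSup_univ, htop, Submodule.map_top]
  by_contra hJ
  obtain ⟨i₀, hi₀⟩ := (Set.ne_univ_iff_exists_notMem _).1 hJ
  -- a countable set of indices containing the images of each of its summands
  have hT : ∀ i, ∃ T : Set ι, T.Countable ∧ (N i).map e ≤ sumOf N T := fun i => by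
    obtain ⟨s, hs, hspan⟩ := (hc i).map e
    have hfin : ∀ y : M, ∃ t : Finset ι, y ∈ ⨆ j ∈ t, N j := fun y =>
      Submodule.exists_finset_of_mem_iSup N (htop ▸ Submodule.mem_top)
    choose t ht using hfin
    refine ⟨⋃ y ∈ s, (t y : Set ι), hs.biUnion fun y _ => (t y).countable_toSet, ?_⟩
    rw [← hspan, Submodule.span_le]
    exact fun y hy => sumOf_mono N (Set.subset_biUnion_of_mem (u := fun y => (t y : Set ι)) hy) (ht y)
  choose T hTc hTe using hT
  let A : ℕ → Set ι := fun n => (fun A => ⋃ j ∈ A, T j)^[n] {i₀}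
  have hAc : ∀ n, (A n).Countable := fun n => by
    induction n with
    | zero => exact Set.countable_singleton _
    | succ n ih =>
      simp only [A, Function.iterate_succ', Function.comp_apply]
      exact ih.biUnion fun j _ => hTc j
  let C : Set ι := ⋃ n, A n
  have hCc : C.Countable := Set.countable_iUnion hAc
  have hCs : ∀ j ∈ C, (N j).map e ≤ sumOf N C := fun j hj => by
    obtain ⟨n, hn⟩ := Set.mem_iUnion.1 hj
    refine (hTe j).trans (sumOf_mono N ((Set.subset_biUnion_of_mem (u := T) hn).trans ?_))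
    have : A (n + 1) = ⋃ j ∈ A n, T j := by simp only [A, Function.iterate_succ', Function.comp_apply]
    exact this ▸ Set.subset_iUnion A (n + 1)
  -- the projection to the sum over `m.J`
  have hcompl : IsCompl (sumOf N m.J) (sumOf N m.Jᶜ) := by
    refine IsCompl.of_eq ?_ ?_
    · exact (hind.disjoint_biSup_biSup disjoint_compl_right).eq_bot
    · rw [← sumOf_union, Set.union_compl_self, sumOf, iSup_univ, htop]
  let q : M →ₗ[R] M := (sumOf N m.J).subtype ∘ₗ Submodule.projectionOnto _ _ hcompl
  let φ : M →ₗ[R] M := e ∘ₗ q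
  let ψ : M →ₗ[R] M := LinearMap.id - φ
  have hU : ∀ x, φ x ∈ (sumOf N m.J).map e := fun x => ⟨q x, Subtype.prop _, rfl⟩
  have hUS : (sumOf N m.J).map e ≤ sumOf N m.J := by
    rw [sumOf, Submodule.map_iSup]
    refine iSup_le fun i => ?_
    rw [Submodule.map_iSup]
    exact iSup_le fun hi => m.stable i hi
  have hφU : ∀ x ∈ (sumOf N m.J).map e, φ x = x := fun x hx => by
    have h1 : q x = x := congrArg Subtype.val
      (Submodule.projectionOnto_apply_left hcompl (⟨x, hUS hx⟩ : sumOf N m.J))
    obtain ⟨y, -, rfl⟩ := hx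
    exact (congrArg e h1).trans (he y)
  let Lnew : Submodule R M := ((sumOf N C).map e).map ψ
  have hdisj : Disjoint ((sumOf N m.J).map e) Lnew := by
    rw [Submodule.disjoint_def]
    intro x hx hx'
    obtain ⟨y, -, rfl⟩ := hx'
    have h1 := hφU _ hx
    simp only [ψ, LinearMap.sub_apply, LinearMap.id_apply, map_sub, hφU _ (hU y), sub_self] at h1
    exact h1.symm
  have hsup : (sumOf N (m.J ∪ C)).map e = (sumOf N m.J).map e ⊔ Lnew := by
    rw [sumOf_union, Submodule.map_sup]
    refine le_antisymm (sup_le le_sup_left fun y hy => ?_) (sup_le le_sup_left ?_)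
    · rw [show y = φ y + ψ y by simp [ψ]]
      exact Submodule.add_mem_sup (hU y) ⟨y, hy, rfl⟩
    · rintro _ ⟨y, hy, rfl⟩
      exact sub_mem (Submodule.mem_sup_right hy) (Submodule.mem_sup_left (hU y))
  have hins : sSupIndep (insert Lnew m.L) := by
    intro X hX
    rw [← m.sup] at hdisj
    by_cases hXL : X = Lnew
    · subst hXL
      exact hdisj.symm.mono_right (sSup_le_sSup fun Y hY => hY.1.resolve_left hY.2)
    · have hXm : X ∈ m.L := hX.resolve_left hXL
      refine ((m.indep hXm).disjoint_sup_right_of_disjoint_sup_left (c := Lnew) ?_).mono_right (sSup_le fun Y hY => ?_)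
      · exact hdisj.mono_left (sup_le (le_sSup hXm) (sSup_le_sSup Set.sdiff_subset))
      · rcases hY.1 with rfl | hY'
        · exact le_sup_right
        · exact le_sup_of_le_left (le_sSup ⟨hY', hY.2⟩)
  let m' : State N e :=
    ⟨m.J ∪ C, insert Lnew m.L,
      fun j hj => hj.elim (fun h => (m.stable j h).trans (sumOf_mono N Set.subset_union_left))
        (fun h => (hCs j h).trans (sumOf_mono N Set.subset_union_right)),
      hins, fun X hX => hX.elim (fun h => h ▸ ((CG.biSup hCc hc).map e).map ψ) (m.cg X),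
      by rw [sSup_insert, m.sup, hsup, sup_comm]⟩
  exact hi₀ ((hm m' ⟨Set.subset_union_left, Set.subset_insert _ _⟩).1
    (Or.inr (Set.mem_iUnion.2 ⟨0, rfl⟩)))

theorem exists_isInternal_of_isCompl (hind : iSupIndep N) (htop : iSup N = ⊤)
    (hc : ∀ i, CAlg.IsCountablyGenerated R (N i)) (P Q : Submodule R M) (hPQ : IsCompl P Q) :
    ∃ L : Set (Submodule R P), iSupIndep (Subtype.val : L → Submodule R P) ∧ sSup L = ⊤ ∧
      ∀ X ∈ L, CAlg.IsCountablyGenerated R X := by
  classical
  let e : M →ₗ[R] M := P.subtype ∘ₗ Submodule.projectionOnto P Q hPQ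
  have he : ∀ x, e (e x) = e x := fun x =>
    congrArg Subtype.val (Submodule.projectionOnto_apply_left hPQ _)
  have hr : LinearMap.range e = P := by
    refine le_antisymm (fun x ⟨y, hy⟩ => hy ▸ Subtype.prop _) fun x hx => ?_
    exact ⟨x, congrArg Subtype.val (Submodule.projectionOnto_apply_left hPQ ⟨x, hx⟩)⟩
  obtain ⟨L, hL, hLc, hLs⟩ := exists_decomposition N e hind htop
    (fun i => cg_of_isCountablyGenerated (hc i)) he
  rw [hr] at hLs
  have hle : ∀ X ∈ L, X ≤ P := fun X hX => hLs ▸ le_sSup hX
  refine ⟨(Submodule.comap P.subtype) '' L, (sSupIndep_iff _).1 ?_, ?_, ?_⟩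
  · rintro _ ⟨X, hX, rfl⟩
    refine Submodule.disjoint_def.2 fun x hx hx' => Subtype.ext ?_
    refine Submodule.disjoint_def.1 (hL hX) (x : M) hx ?_
    have : Submodule.map P.subtype (sSup (Submodule.comap P.subtype '' L \ {Submodule.comap P.subtype X})) ≤
        sSup (L \ {X}) := by
      rw [sSup_eq_iSup, Submodule.map_iSup]
      refine iSup_le fun Y => ?_
      rw [Submodule.map_iSup]
      refine iSup_le fun hY => ?_
      obtain ⟨⟨Z, hZ, rfl⟩, hne⟩ := hY
      rw [Submodule.map_comap_subtype, inf_eq_right.2 (hle Z hZ)]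
      exact le_sSup ⟨hZ, fun h => hne (congrArg (Submodule.comap P.subtype) h)⟩
    exact this ⟨x, hx', rfl⟩
  · apply Submodule.map_injective_of_injective P.injective_subtype
    rw [sSup_image, Submodule.map_iSup, Submodule.map_subtype_top]
    simp only [Submodule.map_iSup, Submodule.map_comap_subtype]
    refine Eq.trans ?_ hLs
    rw [sSup_eq_iSup]
    exact iSup_congr fun X => iSup_congr fun hX => inf_eq_right.2 (hle X hX)
  · rintro _ ⟨X, hX, rfl⟩
    exact isCountablyGenerated_comap (hLc X hX) (hle X hX)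

end Groth.Agent.Kaplansky
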